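set_option autoImplicit false
namespace Cfsg.Agent.Lib.Helper6.TCD.Y5P
noncomputable def WIL0 (i : Nat) : Nat := Nat.land (Nat.shiftRight 0x332219510c8886344312218510c0885f442f2217510b8885b442d2216510b08857442b2215510a8885344292214510a0884f4427221351098884b44252212510908847442322115108888434421221051080883f441f220f51078883b441d220e510708837441b220d5106888334419220c51060882f4417220b51058882b4415220a510508827441322095104888234411220851040881f440f220751038881b440d2206510308817440b22055102888134409220451020880f4407220351018880b4405220251010880744032201510088803440122005100089064382a1c110e0687024380a1c010c0c860543022180d0c048601430021c210a0e85064282a14110a0685024280a1401081084074203210150808840342012100508008401410020805000080013f001f804f8007c013d001e804f00078013b001d804e800740139001c804e000700137001b804d8006c0135001a804d0006801330019804c8006401310018804c00060012f0017804b8005c012d0016804b00058012b0015804a8005401290014804a000500127001380498004c012500128049000480123001180488004401210010804800040011f000f80478003c011d000e804700038011b000d8046800340119000c8046000300117000b80458002c0115000a8045000280113000980448002401110008804400020010f000780438001c010d0006804300018010b00058002800120008000380018000a000400018000800020000 (Nat.mul 17 (Nat.land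 i 255))) 131071
noncomputable def WIL1 (i : Nat) : Nat := Nat.land (Nat.shiftRight 0x13f459f22cf516788b3b459d22ce516708b37459b22cd516688b33459922cc516608b2f459722cb516588b2b459522ca516508b27459322c9516488b23459122c8516408b1f458f22c7516388b1b458d22c6516308b17458b22c5516288b13458922c4516208b0f458722c3516188b0b458522c2516108b07458322c1516088b03458122c0516008a3f451f228f514788a3b451d228e514708a37451b228d514688a334519228c514608a2f4517228b514588a2b4515228a514508a2745132289514488a2345112288514408a1f450f2287514388a1b450d2286514308a17450b2285514288a1345092284514208a0f45072283514188a0b45052282514108a0745032281514088a0345012280514008a7f443f221f510f8887b443d221e510f08877443b221d510e888734439221c510e0886f4437221b510d8886b4435221a510d0886744 (Nat.mul 17 (Nat.land i 255))) 131071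
noncomputable def WI (i : Nat) : Nat := Bool.rec (WIL0 i) (WIL1 i) (Nat.ble 256 i)
end Cfsg.Agent.Lib.Helper6.TCD.Y5P
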