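import Cfsg.Agent.Lib.Helper6.TCD.Y5P.SH
import Cfsg.Agent.Lib.Helper6.TCD.Y5P.SC
import Cfsg.Agent.Lib.Helper6.TCD.Y5P.NH
import Cfsg.Agent.Lib.Helper6.TCD.Y5P.NC
import Cfsg.Agent.Lib.Helper6.TCD.Y5P.WD
import Cfsg.Agent.Lib.Helper6.TCD.Y5P.WI
set_option autoImplicit false
namespace Cfsg.Agent.Lib.Helper6.TCD.Y5P
def n : Nat := 2803
def ncol : Nat := 11
def nrw : Nat := 409
def nw : Nat := 419
def tmax : Nat := 19261
def INV : Nat := 11649936536080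
def N : Nat := 1
end Cfsg.Agent.Lib.Helper6.TCD.Y5P
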