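import Cfsg.Agent.Lib.Helper6.TCD.Y5P.Base
set_option autoImplicit false
set_option maxRecDepth 1000000
set_option Elab.async false
open Cfsg.Agent.Lib.Helper6.TC
namespace Cfsg.Agent.Lib.Helper6.TCD.Y5P
theorem chkW11 : allR (chkWord WD WI base subw INV ncol nrw) 264 24 = true := by decide +kernel
end Cfsg.Agent.Lib.Helper6.TCD.Y5P
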