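import Cfsg.Agent.Lib.Helper6.TCD.Y5P.CW0
import Cfsg.Agent.Lib.Helper6.TCD.Y5P.CW1
import Cfsg.Agent.Lib.Helper6.TCD.Y5P.CW2
import Cfsg.Agent.Lib.Helper6.TCD.Y5P.CW3
import Cfsg.Agent.Lib.Helper6.TCD.Y5P.CW4
import Cfsg.Agent.Lib.Helper6.TCD.Y5P.CW5
import Cfsg.Agent.Lib.Helper6.TCD.Y5P.CW6
import Cfsg.Agent.Lib.Helper6.TCD.Y5P.CW7
import Cfsg.Agent.Lib.Helper6.TCD.Y5P.CW8
import Cfsg.Agent.Lib.Helper6.TCD.Y5P.CW9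
import Cfsg.Agent.Lib.Helper6.TCD.Y5P.CW10
import Cfsg.Agent.Lib.Helper6.TCD.Y5P.CW11
import Cfsg.Agent.Lib.Helper6.TCD.Y5P.CW12
import Cfsg.Agent.Lib.Helper6.TCD.Y5P.CW13
import Cfsg.Agent.Lib.Helper6.TCD.Y5P.CW14
import Cfsg.Agent.Lib.Helper6.TCD.Y5P.CW15
import Cfsg.Agent.Lib.Helper6.TCD.Y5P.CW16
import Cfsg.Agent.Lib.Helper6.TCD.Y5P.CW17
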