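import Cfsg.Agent.Lib.Helper6.WP7
import Cfsg.Agent.Lib.Helper6.TCD.Y5P.All
import Cfsg.Agent.Lib.Helper6.TCD.Y5P.AllW

set_option autoImplicit false
set_option maxRecDepth 100000

namespace Cfsg.Agent.Lib.Helper6.TCD.Y5P
open Cfsg.Agent.Lib.Helper6.TC

theorem hW : ∀ j < nw, chkWord WD WI base subw INV ncol nrw j = true := by
  intro j hj
  have hj' : j < 419 := hj
  by_cases h0 : j < 24
  · exact allR_spec chkW0 j (by omega) (by omega)
  by_cases h1 : j < 48
  · exact allR_spec chkW1 j (by omega) (by omega)
  by_cases h2 : j < 72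
  · exact allR_spec chkW2 j (by omega) (by omega)
  by_cases h3 : j < 96
  · exact allR_spec chkW3 j (by omega) (by omega)
  by_cases h4 : j < 120
  · exact allR_spec chkW4 j (by omega) (by omega)
  by_cases h5 : j < 144
  · exact allR_spec chkW5 j (by omega) (by omega)
  by_cases h6 : j < 168
  · exact allR_spec chkW6 j (by omega) (by omega)
  by_cases h7 : j < 192
  · exact allR_spec chkW7 j (by omega) (by omega)
  by_cases h8 : j < 216
  · exact allR_spec chkW8 j (by omega) (by omega)
  by_cases h9 : j < 240
  · exact allR_spec chkW9 j (by omega) (by omega)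
  by_cases h10 : j < 264
  · exact allR_spec chkW10 j (by omega) (by omega)
  by_cases h11 : j < 288
  · exact allR_spec chkW11 j (by omega) (by omega)
  by_cases h12 : j < 312
  · exact allR_spec chkW12 j (by omega) (by omega)
  by_cases h13 : j < 336
  · exact allR_spec chkW13 j (by omega) (by omega)
  by_cases h14 : j < 360
  · exact allR_spec chkW14 j (by omega) (by omega)
  by_cases h15 : j < 384
  · exact allR_spec chkW15 j (by omega) (by omega)
  by_cases h16 : j < 408
  · exact allR_spec chkW16 j (by omega) (by omega)
  by_cases h17 : j < 419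
  · exact allR_spec chkW17 j (by omega) (by omega)
  omega

theorem hS : ∀ s < n * ncol, chkSlot SH SC NH NC WD n ncol nrw nw tmax INV s = true := by
  intro s hs
  have hs' : s < 30833 := hs
  by_cases h0 : s < 8000
  · exact allR_spec chkS0 s (by omega) (by omega)
  by_cases h1 : s < 16000
  · exact allR_spec chkS1 s (by omega) (by omega)
  by_cases h2 : s < 24000
  · exact allR_spec chkS2 s (by omega) (by omega)
  by_cases h3 : s < 30833
  · exact allR_spec chkS3 s (by omega) (by omega)
  omega

theorem hN : ∀ ν < n, chkName SH NH NC WD n ncol nrw nw tmax ν = true := by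
  intro ν hν
  have hν' : ν < 2803 := hν
  by_cases h0 : ν < 2803
  · exact allR_spec chkN0 ν (by omega) (by omega)
  omega

theorem hL : ∀ ν < n, chkLive SH NH n ncol tmax ν = true := by
  intro ν hν
  have hν' : ν < 2803 := hν
  by_cases h0 : ν < 2803
  · exact allR_spec chkL0 ν (by omega) (by omega)
  omega

theorem hinv1 : ∀ c < 11, invc INV c < 11 := by
  intro c hc
  interval_cases c <;> decide

theorem hpair : ∀ c < 11, [c, invc INV c] ∈ base ∨ [invc INV c, c] ∈ base := by
  intro c hc
  interval_cases c <;> decide +kernel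

theorem hbl : ∀ b ∈ base, ∀ c ∈ b, c < 11 := by decide +kernel

/-- the index of the subgroup is at most `1` -/
theorem idx : (subH (wrels 11 base) (wset 11 subw)).index ≤ 1 ∧
    (subH (wrels 11 base) (wset 11 subw)).index ≠ 0 := by
  have h := wp_index_le' (k := 11) (base := base) (subw := subw) (SH := SH) (SC := SC) (NH := NH)
    (NC := NC) (WD := WD) (WI := WI) (n := n) (nrw := nrw) (nw := nw) (tmax := tmax) (INV := INV)
    (by decide) (by decide) hinv1 hpair hbl hW hS hN hL
  have e : cntLive NH n tmax n = 1 := chkC
  rw [e] at h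
  exact h

end Cfsg.Agent.Lib.Helper6.TCD.Y5P
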