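import Cfsg.Agent.Lib.Helper6.WP7
import Cfsg.Agent.Lib.Helper6.TCD.Y5P.Par

set_option autoImplicit false
set_option maxRecDepth 100000

namespace Cfsg.Agent.Lib.Helper6.TCD.Y5P
open Cfsg.Agent.Lib.Helper6.TC

/-- the relators -/
def base : List (List ℕ) := [
  [0, 0],
  [1, 1],
  [2, 2],
  [3, 3],
  [4, 4],
  [5, 5],
  [6, 6],
  [7, 7],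
  [8, 8],
  [9, 9],
  [10, 10],
  [0, 1, 0, 1, 0, 1],
  [0, 2, 0, 2],
  [0, 3, 0, 3],
  [0, 4, 0, 4],
  [0, 5, 0, 5],
  [0, 6, 0, 6],
  [0, 7, 0, 7],
  [0, 8, 0, 8],
  [0, 9, 0, 9],
  [0, 10, 0, 10],
  [1, 2, 1, 2, 1, 2],
  [1, 3, 1, 3],
  [1, 4, 1, 4],
  [1, 5, 1, 5],
  [1, 6, 1, 6],
  [1, 7, 1, 7],
  [1, 8, 1, 8],
  [1, 9, 1, 9],
  [1, 10, 1, 10],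
  [2, 3, 2, 3, 2, 3],
  [2, 4, 2, 4],
  [2, 5, 2, 5],
  [2, 6, 2, 6],
  [2, 7, 2, 7],
  [2, 8, 2, 8],
  [2, 9, 2, 9],
  [2, 10, 2, 10],
  [3, 4, 3, 4, 3, 4],
  [3, 5, 3, 5],
  [3, 6, 3, 6],
  [3, 7, 3, 7],
  [3, 8, 3, 8, 3, 8],
  [3, 9, 3, 9],
  [3, 10, 3, 10],
  [4, 5, 4, 5, 4, 5],
  [4, 6, 4, 6],
  [4, 7, 4, 7],
  [4, 8, 4, 8],
  [4, 9, 4, 9],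
  [4, 10, 4, 10],
  [5, 6, 5, 6, 5, 6],
  [5, 7, 5, 7],
  [5, 8, 5, 8],
  [5, 9, 5, 9],
  [5, 10, 5, 10],
  [6, 7, 6, 7, 6, 7],
  [6, 8, 6, 8],
  [6, 9, 6, 9],
  [6, 10, 6, 10],
  [7, 8, 7, 8],
  [7, 9, 7, 9],
  [7, 10, 7, 10, 7, 10],
  [8, 9, 8, 9, 8, 9],
  [8, 10, 8, 10],
  [9, 10, 9, 10],
  [3, 2, 1, 3, 4, 5, 3, 8, 9, 3, 2, 1, 3, 4, 5, 3, 8, 9, 3, 2, 1, 3, 4, 5, 3, 8, 9, 3, 2, 1, 3, 4, 5, 3, 8, 9, 3, 2, 1, 3, 4, 5, 3, 8, 9, 3, 2, 1, 3, 4, 5, 3, 8, 9, 3, 2, 1, 3, 4, 5, 3, 8, 9, 3, 2, 1, 3, 4, 5, 3, 8, 9, 3, 2, 1, 3, 4, 5, 3, 8, 9, 3, 2, 1, 3, 4, 5, 3, 8, 9],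
  [3, 4, 2, 8, 5, 1, 6, 3, 4, 2, 8, 5, 1, 6, 3, 4, 2, 8, 5, 1, 6, 3, 4, 2, 8, 5, 1, 6, 3, 4, 2, 8, 5, 1, 6, 3, 4, 2, 8, 5, 1, 6, 3, 4, 2, 8, 5, 1, 6, 3, 4, 2, 8, 5, 1, 6, 3, 4, 2, 8, 5, 1, 6, 3, 4, 2, 8, 5, 1, 6, 3, 4, 2, 8, 5, 1, 6, 3, 4, 2, 8, 5, 1, 6, 3, 4, 2, 8, 5, 1, 6, 3, 4, 2, 8, 5, 1, 6, 3, 4, 2, 8, 5, 1, 6, 3, 4, 2, 8, 5, 1, 6, 3, 4, 2, 8, 5, 1, 6, 3, 4, 2, 8, 5, 1, 6],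
  [3, 4, 2, 8, 5, 1, 6, 3, 4, 2, 8, 5, 1, 6, 3, 4, 2, 8, 5, 1, 6, 3, 4, 2, 8, 5, 1, 6, 3, 4, 2, 8, 5, 1, 6, 3, 4, 2, 8, 5, 1, 6, 3, 4, 2, 8, 5, 1, 6, 3, 4, 2, 8, 5, 1, 6, 3, 4, 2, 8, 5, 1, 6, 9, 6, 1, 5, 8, 2, 4, 3, 6, 1, 5, 8, 2, 4, 3, 6, 1, 5, 8, 2, 4, 3, 6, 1, 5, 8, 2, 4, 3, 6, 1, 5, 8, 2, 4, 3, 6, 1, 5, 8, 2, 4, 3, 6, 1, 5, 8, 2, 4, 3, 6, 1, 5, 8, 2, 4, 3, 6, 1, 5, 8, 2, 4, 3, 9],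
  [3, 4, 2, 8, 5, 1, 6, 3, 4, 2, 8, 5, 1, 6, 3, 4, 2, 8, 5, 1, 6, 3, 4, 2, 8, 5, 1, 6, 3, 4, 2, 8, 5, 1, 6, 3, 4, 2, 8, 5, 1, 6, 3, 4, 2, 8, 5, 1, 6, 3, 4, 2, 8, 5, 1, 6, 3, 4, 2, 8, 5, 1, 6, 7, 3, 4, 2, 8, 5, 1, 6, 3, 4, 2, 8, 5, 1, 6, 3, 4, 2, 8, 5, 1, 6, 3, 4, 2, 8, 5, 1, 6, 3, 4, 2, 8, 5, 1, 6, 3, 4, 2, 8, 5, 1, 6, 3, 4, 2, 8, 5, 1, 6, 3, 4, 2, 8, 5, 1, 6, 3, 4, 2, 8, 5, 1, 6, 7, 3, 4, 2, 8, 5, 1, 6, 3, 4, 2, 8, 5, 1, 6, 3, 4, 2, 8, 5, 1, 6, 3, 4, 2, 8, 5, 1, 6, 3, 4, 2, 8, 5, 1, 6, 3, 4, 2, 8, 5, 1, 6, 3, 4, 2, 8, 5, 1, 6, 3, 4, 2, 8, 5, 1, 6, 3, 4, 2, 8, 5, 1, 6, 7]]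

/-- the generators of the subgroup -/
def subw : List (List ℕ) := [[0], [1], [2], [3], [4], [5], [6], [7], [8], [9]]

end Cfsg.Agent.Lib.Helper6.TCD.Y5P
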